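import Groth.Agent.Lib.TorKoszul.Complex
import Groth.Agent.Lib.TorKill.Powers
import Groth.Agent.Lib.TorBal.Basic

/-!
# The inclusions of powers of an ideal are eventually zero on high `Tor`
-/

set_option autoImplicit false
universe u

open CategoryTheory GrothLib.FlatFP GrothLib.GorTor GrothLib.ExtTorMap

namespace GrothLib.TorKoszul

variable {A : Type u} [CommRing A]

section general

variable {V : Type u} [AddCommGroup V] [Module A V]

/-- Restriction of a linear map to submodules. -/
noncomputable def res (φ : V →ₗ[A] V) (U U' : Submodule A V) (h : ∀ x ∈ U, φ x ∈ U') :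
    ModuleCat.of A U ⟶ ModuleCat.of A U' :=
  ModuleCat.ofHom (φ.restrict h)

/-- A linear map between submodules, as a morphism. -/
noncomputable def ofSub {W : Type u} [AddCommGroup W] [Module A W] {U : Submodule A V} {U' : Submodule A W}
    (φ : U →ₗ[A] U') : ModuleCat.of A U ⟶ ModuleCat.of A U' :=
  ModuleCat.ofHom φ

/-- A bijection between submodules, as an isomorphism. -/
noncomputable def isoSub {U U' : Submodule A V} (φ : U →ₗ[A] U') (h : Function.Bijective φ) :
    ModuleCat.of A U ≅ ModuleCat.of A U' :=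
  (LinearEquiv.ofBijective φ h).toModuleIso

theorem killed_sub {r : A} {d : ℕ} (U : Submodule A V) (f : V →ₗ[A] V) (hm : ∀ x, f x ∈ U) (hf : ∀ x ∈ U, f x = x)
    (h : GrothLib.TorKill.Killed r (ModuleCat.of A V) d) : GrothLib.TorKill.Killed r (ModuleCat.of A U) d :=
  h.retract (ModuleCat.ofHom U.subtype) (ModuleCat.ofHom (LinearMap.codRestrict U f hm))
    (ModuleCat.hom_ext (LinearMap.ext fun q => Subtype.ext (hf _ q.2)))

theorem torCxMap_zero (X Y N : ModuleCat.{u} A) : torCxMap (0 : X ⟶ Y) N = 0 := by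
  apply HomologicalComplex.hom_ext
  intro j
  apply ModuleCat.hom_ext
  refine TensorProduct.ext' fun x z => ?_
  exact TensorProduct.zero_tmul _ z

theorem torCxMap_add {X Y : ModuleCat.{u} A} (f g : X ⟶ Y) (N : ModuleCat.{u} A) :
    torCxMap (f + g) N = torCxMap f N + torCxMap g N := by
  apply HomologicalComplex.hom_ext
  intro j
  apply ModuleCat.hom_ext
  refine TensorProduct.ext' fun x z => ?_
  exact TensorProduct.add_tmul _ _ z

theorem torZero_zero (X Y : ModuleCat.{u} A) (i : ℕ) : TorZero (0 : X ⟶ Y) i := fun N => by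
  rw [torCxMap_zero, HomologicalComplex.homologyMap_zero]

theorem torZero_of_subsingleton_src {X Y : ModuleCat.{u} A} [Subsingleton X] (f : X ⟶ Y) (i : ℕ) :
    TorZero f i := by
  rw [(ModuleCat.isZero_of_subsingleton X).eq_of_src f 0]
  exact torZero_zero X Y i

theorem torZero_comp_left {X Y Z : ModuleCat.{u} A} {f : X ⟶ Y} (g : Y ⟶ Z) {i : ℕ} (h : TorZero f i) :
    TorZero (f ≫ g) i := fun N => by
  rw [GrothLib.ExtTorMap.torCxMap_comp, HomologicalComplex.homologyMap_comp, h N, Limits.zero_comp]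

theorem torZero_comp_right {X Y Z : ModuleCat.{u} A} (f : X ⟶ Y) {g : Y ⟶ Z} {i : ℕ} (h : TorZero g i) :
    TorZero (f ≫ g) i := fun N => by
  rw [GrothLib.ExtTorMap.torCxMap_comp, HomologicalComplex.homologyMap_comp, h N, Limits.comp_zero]

theorem torZero_sum {X Y : ModuleCat.{u} A} {ι : Type*} (s : Finset ι) (f : ι → (X ⟶ Y)) {i : ℕ}
    (h : ∀ j ∈ s, TorZero (f j) i) : TorZero (∑ j ∈ s, f j) i := by
  classical
  induction s using Finset.induction_on with
  | empty => rw [Finset.sum_empty]; exact torZero_zero X Y i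
  | insert j s hj ih =>
    intro N
    rw [Finset.sum_insert hj, torCxMap_add, HomologicalComplex.homologyMap_add, h j (Finset.mem_insert_self j s) N,
      ih (fun l hl => h l (Finset.mem_insert_of_mem hl)) N, add_zero]

theorem torZero_smul_id {r : A} {M : ModuleCat.{u} A} {d i : ℕ} (h : GrothLib.TorKill.Killed r M d) (hi : d < i) :
    TorZero (ModuleCat.ofHom (r • LinearMap.id : M →ₗ[A] M)) i := fun L => by
  refine ModuleCat.hom_ext (LinearMap.ext fun z => ?_)
  refine (GrothLib.FlatCx.homologyMap_eq_smul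
    ((HomologicalComplex.shortComplexFunctor _ (ComplexShape.down ℕ) i).map
      (torCxMap (ModuleCat.ofHom (r • LinearMap.id : M →ₗ[A] M)) L)) r (fun w => ?_) z).trans (h L i hi z)
  let X : ModuleCat.{u} A := (projectiveResolution L).complex.X i
  have key : ∀ w : TensorProduct A M X, LinearMap.rTensor X (r • LinearMap.id : M →ₗ[A] M) w = r • w := fun w => by
    rw [LinearMap.rTensor_smul, LinearMap.rTensor_id]
    rfl
  exact key w

end general

variable {I : Ideal A} {g : ℕ} (a : Fin g → A) (ha : ∀ j, a j ∈ I)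

set_option quotPrecheck false in
local notation "ℬ" => ↥(reesAlgebra I)
set_option quotPrecheck false in
local notation "VV" => (Finset (Fin g) → ↥(reesAlgebra I))

/-- Cochains of degree `p`. -/
def Cp (p k n : ℕ) : Submodule A VV where
  carrier := {c | ∀ S, c S ∈ Deg I (n + p * k) ∧ (S.card ≠ p → c S = 0)}
  zero_mem' S := ⟨zero_mem _, fun _ => rfl⟩
  add_mem' hc hd S := ⟨add_mem (hc S).1 (hd S).1, fun h => by rw [Pi.add_apply, (hc S).2 h, (hd S).2 h, add_zero]⟩
  smul_mem' r c hc S := ⟨Submodule.smul_mem _ r (hc S).1, fun h => by rw [Pi.smul_apply, (hc S).2 h, smul_zero]⟩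

/-- Cocycles of degree `p`. -/
noncomputable def Zp (p k n : ℕ) : Submodule A VV :=
  Cp (I := I) p k n ⊓ LinearMap.ker ((dK a ha k).restrictScalars A)

/-- The map between levels. -/
noncomputable def psi (N : ℕ) : VV →ₗ[A] VV where
  toFun c S := (∏ j ∈ S, tau a ha j ^ N) * sh N (c S)
  map_add' c c' := funext fun S => by simp only [Pi.add_apply, map_add, mul_add]
  map_smul' r c := funext fun S => by
    simp only [Pi.smul_apply, RingHom.id_apply, map_smul, mul_smul_comm]

theorem psi_apply (N : ℕ) (c : VV) (S : Finset (Fin g)) :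
    psi a ha N c S = (∏ j ∈ S, tau a ha j ^ N) * sh N (c S) := rfl

theorem sh_smul_sign (N : ℕ) (i : Fin g) (S : Finset (Fin g)) (q : ℬ) : sh N (eps i S * q) = eps i S * sh N q := by
  unfold eps
  rcases neg_one_pow_eq_or ℬ (S.filter (· < i)).card with h | h <;> rw [h]
  · rw [one_mul, one_mul]
  · rw [neg_one_mul, neg_one_mul, map_neg]

theorem psi_mem_Cp {N p k n : ℕ} (hn : N ≤ n) {c : VV} (hc : c ∈ Cp (I := I) p k n) :
    psi a ha N c ∈ Cp (I := I) p (k + N) (n - N) := fun S => by
  by_cases h : S.card = p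
  · refine ⟨Deg_anti ?_ (prod_tau_mul_mem a ha S N (sh_mem (hc S).1)), fun h' => absurd h h'⟩
    rw [h, mul_add]; omega
  · have h0 : psi a ha N c S = 0 := by rw [psi_apply, (hc S).2 h, map_zero, mul_zero]
    exact ⟨by rw [h0]; exact zero_mem _, fun _ => h0⟩

theorem dK_psi {N p k n : ℕ} (hn : N ≤ n) {c : VV} (hc : c ∈ Cp (I := I) p k n) :
    dK a ha (k + N) (psi a ha N c) = psi a ha N (dK a ha k c) := funext fun S => by
  rw [dK_apply, psi_apply, dK_apply, map_sum, Finset.mul_sum]
  refine Finset.sum_congr rfl fun i hi => ?_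
  rw [sh_smul_sign, sh_tau_pow a ha i k (Deg_anti (by omega) (hc (S.erase i)).1), psi_apply,
    ← Finset.mul_prod_erase S _ hi, pow_add]
  ring

theorem psi_mem_Zp {N p k n : ℕ} (hn : N ≤ n) {c : VV} (hc : c ∈ Zp a ha p k n) :
    psi a ha N c ∈ Zp a ha p (k + N) (n - N) := by
  refine ⟨psi_mem_Cp a ha hn hc.1, ?_⟩
  show dK a ha (k + N) (psi a ha N c) = 0
  rw [dK_psi a ha hn hc.1, show dK a ha k c = 0 from hc.2, map_zero]

theorem psi_pow_mem_Zp {N p : ℕ} : ∀ (r k n : ℕ), r * N ≤ n → ∀ c ∈ Zp a ha p k n,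
    (psi a ha N ^ r) c ∈ Zp a ha p (k + r * N) (n - r * N)
  | 0, k, n, _, c, hc => by simpa using hc
  | r + 1, k, n, hn, c, hc => by
    rw [pow_succ, Module.End.mul_apply, show k + (r + 1) * N = k + N + r * N by ring,
      show n - (r + 1) * N = n - N - r * N by rw [add_mul, one_mul]; omega]
    exact psi_pow_mem_Zp r _ _ (by rw [add_mul, one_mul] at hn; omega) _
      (psi_mem_Zp a ha (by rw [add_mul, one_mul] at hn; omega) hc)

theorem psi_pow_mem_Cp {N p : ℕ} : ∀ (r k n : ℕ), r * N ≤ n → ∀ c ∈ Cp (I := I) (g := g) p k n,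
    (psi a ha N ^ r) c ∈ Cp (I := I) p (k + r * N) (n - r * N)
  | 0, k, n, _, c, hc => by simpa using hc
  | r + 1, k, n, hn, c, hc => by
    rw [pow_succ, Module.End.mul_apply, show k + (r + 1) * N = k + N + r * N by ring,
      show n - (r + 1) * N = n - N - r * N by rw [add_mul, one_mul]; omega]
    exact psi_pow_mem_Cp r _ _ (by rw [add_mul, one_mul] at hn; omega) _
      (psi_mem_Cp a ha (by rw [add_mul, one_mul] at hn; omega) hc)

theorem dK_psi_pow {N p : ℕ} : ∀ (r k n : ℕ), r * N ≤ n → ∀ c ∈ Cp (I := I) (g := g) p k n,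
    dK a ha (k + r * N) ((psi a ha N ^ r) c) = (psi a ha N ^ r) (dK a ha k c)
  | 0, k, n, _, c, _ => by simp
  | r + 1, k, n, hn, c, hc => by
    rw [pow_succ, Module.End.mul_apply, Module.End.mul_apply, show k + (r + 1) * N = k + N + r * N by ring,
      dK_psi_pow r (k + N) (n - N) (by rw [add_mul, one_mul] at hn; omega) _
        (psi_mem_Cp a ha (by rw [add_mul, one_mul] at hn; omega) hc),
      dK_psi a ha (by rw [add_mul, one_mul] at hn; omega) hc]

theorem dK_mem_Zp {p k n : ℕ} {c : VV} (hc : c ∈ Cp (I := I) p k n) : dK a ha k c ∈ Zp a ha (p + 1) k n := by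
  refine ⟨fun S => ⟨?_, fun h => ?_⟩, dK_dK a ha k c⟩
  · rw [dK_apply]
    refine Submodule.sum_mem _ fun i hi => ?_
    rw [show n + (p + 1) * k = n + p * k + k by ring]
    have h := tau_pow_mul_mem a ha i k (hc (S.erase i)).1
    unfold eps
    rcases neg_one_pow_eq_or ℬ (S.filter (· < i)).card with e | e <;> rw [e]
    · rwa [one_mul]
    · rw [neg_one_mul]; exact neg_mem h
  · rw [dK_apply]
    refine Finset.sum_eq_zero fun i hi => ?_
    rw [(hc (S.erase i)).2 (by rw [Finset.card_erase_of_mem hi]; have := Finset.card_pos.2 ⟨i, hi⟩; omega), mul_zero,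
      mul_zero]

/-- The differential between cochains and cocycles. -/
noncomputable def dres (p k n : ℕ) : Cp (I := I) (g := g) p k n →ₗ[A] Zp a ha (p + 1) k n :=
  LinearMap.codRestrict _ (((dK a ha k).restrictScalars A).domRestrict (Cp (I := I) p k n))
    fun c => dK_mem_Zp a ha c.2

/-- `0 → Z_p → C_p → Z_{p+1} → 0`. -/
noncomputable def cseq (p k n : ℕ) : ShortComplex (ModuleCat.{u} A) :=
  ShortComplex.mk (ofSub (Submodule.inclusion (inf_le_left : Zp a ha p k n ≤ Cp (I := I) p k n)))
    (ofSub (dres a ha p k n))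
    (ModuleCat.hom_ext (LinearMap.ext fun (c : Zp a ha p k n) => Subtype.ext c.2.2))

/-- `dres` is surjective in high degrees. -/
def Exact' (k B : ℕ) : Prop :=
  ∀ n, B ≤ n → ∀ z : VV, (∀ S, z S ∈ Deg I (n + S.card * k)) → dK a ha k z = 0 →
    ∃ y, (∀ S, y S ∈ Deg I (n + S.card * k)) ∧ dK a ha k y = z

theorem dres_surjective {p k n B : ℕ} (hB : Exact' a ha k B) (hn : B ≤ n) :
    Function.Surjective (dres a ha p k n) := fun z => by
  classical
  obtain ⟨y, hy, hyz⟩ := hB n hn z.1 (fun S => by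
    by_cases h : S.card = p + 1
    · rw [h]; exact (z.2.1 S).1
    · rw [(z.2.1 S).2 h]; exact zero_mem _) z.2.2
  refine ⟨⟨fun S => if S.card = p then y S else 0, fun S => ?_⟩, Subtype.ext (funext fun S => ?_)⟩
  · dsimp only
    split_ifs with h
    · exact ⟨h ▸ hy S, fun h' => absurd h h'⟩
    · exact ⟨zero_mem _, fun _ => rfl⟩
  · show dK a ha k (fun T => if T.card = p then y T else 0) S = (z : VV) S
    by_cases h : S.card = p + 1
    · rw [← hyz, dK_apply, dK_apply]
      refine Finset.sum_congr rfl fun i hi => ?_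
      rw [if_pos (by rw [Finset.card_erase_of_mem hi, h]; rfl)]
    · rw [(z.2.1 S).2 h, dK_apply]
      refine Finset.sum_eq_zero fun i hi => ?_
      rw [if_neg (fun e => h (by rw [← Finset.card_erase_add_one hi, e])), mul_zero, mul_zero]

theorem cseq_shortExact {p k n B : ℕ} (hB : Exact' a ha k B) (hn : B ≤ n) : (cseq a ha p k n).ShortExact :=
  { exact := (ShortComplex.moduleCat_exact_iff _).2 fun x hx =>
      ⟨⟨x.1, x.2, congrArg Subtype.val hx⟩, rfl⟩
    mono_f := (ModuleCat.mono_iff_injective _).2 (Submodule.inclusion_injective (inf_le_left : Zp a ha p k n ≤ Cp (I := I) p k n))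
    epi_g := (ModuleCat.epi_iff_surjective _).2 (dres_surjective a ha hB hn) }

theorem Zp_zero_eq_bot {k n B : ℕ} (hB : Exact' a ha k B) (hn : B ≤ n) : Zp a ha 0 k n = ⊥ := by
  refine (Submodule.eq_bot_iff _).2 fun z hz => ?_
  obtain ⟨y, -, hyz⟩ := hB n hn z (fun S => by
    by_cases h : S.card = 0
    · rw [h]; exact (hz.1 S).1
    · rw [(hz.1 S).2 h]; exact zero_mem _) hz.2
  funext S
  by_cases h : S.card = 0
  · rw [← hyz, dK_apply, Finset.card_eq_zero.1 h]; rfl
  · exact (hz.1 S).2 h

/-- The map of the short exact sequences. -/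
noncomputable def cseqMap (N p r k n : ℕ) (hn : r * N ≤ n) :
    cseq a ha p k n ⟶ cseq a ha p (k + r * N) (n - r * N) :=
  ShortComplex.homMk (res (psi a ha N ^ r) _ _ (psi_pow_mem_Zp a ha r k n hn))
    (res (psi a ha N ^ r) _ _ (psi_pow_mem_Cp a ha r k n hn))
    (res (psi a ha N ^ r) _ _ (psi_pow_mem_Zp a ha r k n hn))
    (ModuleCat.hom_ext (LinearMap.ext fun _ => rfl))
    (ModuleCat.hom_ext (LinearMap.ext fun c => Subtype.ext (dK_psi_pow a ha r k n hn c.1 c.2)))

theorem tau_pow_mul_sh (j : Fin g) : ∀ (N : ℕ) {q : ℬ}, q ∈ Deg I N → tau a ha j ^ N * sh N q = (a j ^ N) • q := by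
  have hc : ∀ (N : ℕ) (q : ℬ) (i : ℕ), ((tau a ha j ^ N * q : ℬ) : Polynomial A).coeff i =
      if i < N then 0 else a j ^ N * (q : Polynomial A).coeff (i - N) := by
    intro N
    induction N with
    | zero => intro q i; simp
    | succ N ih =>
      intro q i
      rw [pow_succ', mul_assoc, coeff_tau_mul, ih]
      rcases i with _ | i
      · simp
      · rw [if_neg (Nat.succ_ne_zero i), Nat.add_sub_cancel, Nat.add_sub_add_right]
        by_cases h : i < N
        · rw [if_pos h, if_pos (by omega), mul_zero]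
        · rw [if_neg h, if_neg (by omega), ← mul_assoc, ← pow_succ']
  intro N q hq
  refine Subtype.ext (Polynomial.ext fun i => ?_)
  rw [hc, coeff_sh]
  show _ = (a j ^ N • (q : Polynomial A)).coeff i
  rw [Polynomial.coeff_smul, smul_eq_mul]
  split_ifs with h
  · rw [hq i h, mul_zero]
  · rw [Nat.sub_add_cancel (by omega)]

/-- A component of a cochain. -/
noncomputable def proj (p k n : ℕ) (S : Finset (Fin g)) : Cp (I := I) (g := g) p k n →ₗ[A] Deg I (n + p * k) :=
  LinearMap.codRestrict _ ((LinearMap.proj S).comp (Cp (I := I) p k n).subtype) fun c => (c.2 S).1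

/-- A cochain from one component. -/
noncomputable def incl (p k n : ℕ) (S : Finset (Fin g)) (hS : S.card = p) :
    Deg I (n + p * k) →ₗ[A] Cp (I := I) (g := g) p k n :=
  LinearMap.codRestrict _ ((LinearMap.single A (fun _ : Finset (Fin g) => ℬ) S).comp (Deg I (n + p * k)).subtype)
    fun q T => by
      by_cases h : T = S
      · subst h
        refine ⟨?_, fun h' => absurd hS h'⟩
        show Pi.single (M := fun _ => ℬ) T (q : ℬ) T ∈ _
        rw [Pi.single_eq_same]; exact q.2
      · have h0 : Pi.single (M := fun _ => ℬ) S (q : ℬ) T = 0 := Pi.single_eq_of_ne h _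
        exact ⟨by show Pi.single (M := fun _ => ℬ) S (q : ℬ) T ∈ _; rw [h0]; exact zero_mem _, fun _ => h0⟩

/-- The component of `psi` at a set, divided by `a j ^ N`. -/
noncomputable def mu (N : ℕ) (S : Finset (Fin g)) (j : Fin g) (m m' : ℕ) (hm : m' ≤ m + (S.erase j).card * N) :
    Deg I m →ₗ[A] Deg I m' :=
  LinearMap.codRestrict _ ((LinearMap.mulLeft A (∏ l ∈ S.erase j, tau a ha l ^ N)).comp (Deg I m).subtype)
    fun q => Deg_anti hm (prod_tau_mul_mem a ha (S.erase j) N q.2)

/-- The component of `psi` at a set. -/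
noncomputable def psiComp (N p k n : ℕ) (S : Finset (Fin g)) (hS : S.card = p) (j : Fin g)
    (hm : n - N + p * (k + N) ≤ n + p * k + (S.erase j).card * N) :
    ModuleCat.of A (Cp (I := I) (g := g) p k n) ⟶ ModuleCat.of A (Cp (I := I) (g := g) p (k + N) (n - N)) :=
  ofSub (proj p k n S) ≫ ofSub (a j ^ N • LinearMap.id : Deg I (n + p * k) →ₗ[A] Deg I (n + p * k)) ≫
    ofSub (mu a ha N S j _ _ hm) ≫ ofSub (incl p (k + N) (n - N) S hS)

theorem psiComp_apply {N p k n : ℕ} (hn : N ≤ n) {S : Finset (Fin g)} (hS : S.card = p) {j : Fin g} (hj : j ∈ S)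
    (hm : n - N + p * (k + N) ≤ n + p * k + (S.erase j).card * N) (c : Cp (I := I) (g := g) p k n)
    (T : Finset (Fin g)) :
    (((psiComp a ha N p k n S hS j hm).hom c : Cp (I := I) (g := g) p (k + N) (n - N)) : VV) T =
      if T = S then psi a ha N c.1 S else 0 := by
  show Pi.single (M := fun _ => ℬ) S ((∏ l ∈ S.erase j, tau a ha l ^ N) * (a j ^ N • c.1 S)) T = _
  rw [Pi.single_apply]
  congr 1
  rw [psi_apply, ← Finset.mul_prod_erase S _ hj, mul_right_comm, mul_comm,
    ← tau_pow_mul_sh a ha j N (Deg_anti (by omega) (c.2 S).1)]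

theorem torZero_psiComp {N i d : ℕ} {p k n : ℕ} {S : Finset (Fin g)} {hS : S.card = p} {j : Fin g}
    (hkill : GrothLib.TorKill.Killed (a j ^ N) (ModuleCat.of A (Deg I (n + p * k))) d) (hi : d < i) (hm) :
    TorZero (psiComp a ha N p k n S hS j hm) i :=
  torZero_comp_right _ (torZero_comp_left _ (torZero_smul_id hkill hi))

theorem torZero_psi_Cp {N i d : ℕ}
    (hkill : ∀ (j : Fin g) (m : ℕ), GrothLib.TorKill.Killed (a j ^ N) (ModuleCat.of A (Deg I m)) d) (hi : d < i)
    {p k n : ℕ} (hp : 1 ≤ p) (hn : N ≤ n) (h) :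
    TorZero (res (psi a ha N) (Cp (I := I) p k n) (Cp (I := I) p (k + N) (n - N)) h) i := by
  classical
  have hdeg : n - N + p * (k + N) = n + p * k + (p - 1) * N := by
    obtain ⟨q, rfl⟩ := Nat.exists_eq_add_of_le hp
    rw [Nat.add_sub_cancel_left, mul_add, add_mul, add_mul, one_mul]
    omega
  have hpos : ∀ S : {S : Finset (Fin g) // S.card = p}, S.1.Nonempty := fun S =>
    Finset.card_pos.1 (by rw [S.2]; omega)
  have hm : ∀ S : {S : Finset (Fin g) // S.card = p},
      n - N + p * (k + N) ≤ n + p * k + (S.1.erase (hpos S).choose).card * N := fun S => by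
    rw [Finset.card_erase_of_mem (hpos S).choose_spec, S.2, hdeg]
  let comp := fun S : {S : Finset (Fin g) // S.card = p} =>
    psiComp a ha N p k n S.1 S.2 (hpos S).choose (hm S)
  have hsum : res (psi a ha N) (Cp (I := I) p k n) (Cp (I := I) p (k + N) (n - N)) h = ∑ S, comp S := by
    refine ModuleCat.hom_ext (LinearMap.ext fun c => Subtype.ext (funext fun T => ?_))
    rw [ModuleCat.hom_sum, LinearMap.sum_apply, AddSubmonoidClass.coe_finsetSum, Finset.sum_apply]
    show psi a ha N c.1 T = _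
    have he := fun S : {S : Finset (Fin g) // S.card = p} =>
      psiComp_apply a ha hn S.2 (hpos S).choose_spec (hm S) c T
    rw [Finset.sum_congr rfl fun S _ => he S]
    by_cases hT : T.card = p
    · rw [Finset.sum_eq_single (⟨T, hT⟩ : {S : Finset (Fin g) // S.card = p})
        (fun S _ hne => if_neg fun e => hne (Subtype.ext e.symm)) (fun h' => absurd (Finset.mem_univ _) h'), if_pos rfl]
    · rw [Finset.sum_eq_zero fun (S : {S : Finset (Fin g) // S.card = p}) _ =>
        if_neg fun e => hT (by rw [e, S.2]), psi_apply, (c.2 T).2 hT, map_zero, mul_zero]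
  rw [hsum]
  exact torZero_sum _ _ fun S _ =>
    torZero_psiComp a ha (hkill _ _) hi _

theorem torZero_psi_pow_Zp {N B Q d : ℕ}
    (hkill : ∀ (j : Fin g) (m : ℕ), GrothLib.TorKill.Killed (a j ^ N) (ModuleCat.of A (Deg I m)) d)
    (hB : ∀ q ≤ Q, Exact' a ha (1 + q * N) B) :
    ∀ (r p q n : ℕ), p + r = g + 1 → 1 ≤ p → q + r ≤ Q → B + r * N ≤ n → ∀ (h) (i : ℕ), d < i →
      TorZero (res (psi a ha N ^ r) (Zp a ha p (1 + q * N) n) (Zp a ha p (1 + q * N + r * N) (n - r * N)) h) i := by
  intro r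
  induction r with
  | zero =>
    intro p q n hp _ _ _ h i _
    have : Subsingleton (ModuleCat.of A (Zp a ha p (1 + q * N) n)) := by
      refine ⟨fun x y => Subtype.ext (funext fun S => ?_)⟩
      have hS : S.card ≠ p := by
        have := Finset.card_le_univ S
        rw [Fintype.card_fin] at this
        omega
      rw [(x.2.1 S).2 hS, (y.2.1 S).2 hS]
    exact torZero_of_subsingleton_src _ i
  | succ r ih =>
    intro p q n hp hp1 hq hn h i hi
    rw [add_mul, one_mul] at hn
    have h1 := cseq_shortExact a ha (p := p) (hB q (by omega)) (show B ≤ n by omega)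
    have h2 := cseq_shortExact a ha (p := p) (hB (q + 1) (by omega)) (show B ≤ n - N by omega)
    have h3 := cseq_shortExact a ha (p := p) (hB (q + 1 + r) (by omega)) (show B ≤ n - N - r * N by omega)
    rw [show 1 + (q + 1) * N = 1 + q * N + N by ring] at h2
    rw [show 1 + (q + 1 + r) * N = 1 + q * N + N + r * N by ring] at h3
    intro L
    refine ModuleCat.hom_ext (LinearMap.ext fun y => ?_)
    let φ : cseq a ha p (1 + q * N) n ⟶ cseq a ha p (1 + q * N + N) (n - N) :=
      ShortComplex.homMk (res (psi a ha N) _ _ fun c hc => psi_mem_Zp a ha (by omega) hc)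
        (res (psi a ha N) _ _ fun c hc => psi_mem_Cp a ha (by omega) hc)
        (res (psi a ha N) _ _ fun c hc => psi_mem_Zp a ha (by omega) hc)
        (ModuleCat.hom_ext (LinearMap.ext fun _ => rfl))
        (ModuleCat.hom_ext (LinearMap.ext fun c => Subtype.ext (dK_psi a ha (by omega) c.2)))
    let φ' := cseqMap a ha N p r (1 + q * N + N) (n - N) (by omega)
    have hT2 := torSeq_shortExact _ h2 L
    have hT3 := torSeq_shortExact _ h3 L
    let δ := (hT2.δ (i + 1) i (by simp))
    have hz : HomologicalComplex.homologyMap (torCxMap φ.τ₁ L) i ≫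
        HomologicalComplex.homologyMap (torCxMap (cseq a ha p (1 + q * N + N) (n - N)).f L) i = 0 := by
      rw [← HomologicalComplex.homologyMap_comp, ← GrothLib.ExtTorMap.torCxMap_comp, φ.comm₁₂]
      exact torZero_comp_right _ (torZero_psi_Cp a ha hkill hi hp1 (by omega) _) L
    obtain ⟨w, hw⟩ := ((ShortComplex.ShortExact.moduleCat_exact_iff_function_exact _).1
      (hT2.homology_exact₁ (i + 1) i (by simp)) _).1 (ConcreteCategory.congr_hom hz y)
    let ψ' : torSeq (cseq a ha p (1 + q * N + N) (n - N)) L ⟶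
        torSeq (cseq a ha p (1 + q * N + N + r * N) (n - N - r * N)) L :=
      ShortComplex.homMk (torCxMap φ'.τ₁ L) (torCxMap φ'.τ₂ L) (torCxMap φ'.τ₃ L)
        ((GrothLib.ExtTorMap.torCxMap_comp _ _ L).symm.trans
          ((congrArg (fun f => torCxMap f L) φ'.comm₁₂).trans (GrothLib.ExtTorMap.torCxMap_comp _ _ L)))
        ((GrothLib.ExtTorMap.torCxMap_comp _ _ L).symm.trans
          ((congrArg (fun f => torCxMap f L) φ'.comm₂₃).trans (GrothLib.ExtTorMap.torCxMap_comp _ _ L)))
    have hnat := HomologicalComplex.HomologySequence.δ_naturality ψ' hT2 hT3 (i + 1) i (by simp)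
    have hk : 1 + q * N + N = 1 + (q + 1) * N := by ring
    have h0 : HomologicalComplex.homologyMap ψ'.τ₃ (i + 1) = 0 := by
      have := ih (p + 1) (q + 1) (n - N) (by omega) (by omega) (by omega) (by omega)
      rw [← hk] at this
      exact this (fun c hc => psi_pow_mem_Zp a ha r _ _ (by omega) c hc) (i + 1) (by omega) L
    rw [h0, Limits.zero_comp] at hnat
    have h4 : ∀ (k' n' : ℕ) (_ : k' = 1 + q * N + N + r * N) (_ : n' = n - N - r * N) (h'),
        (HomologicalComplex.homologyMap (torCxMap (res (psi a ha N ^ (r + 1)) (Zp a ha p (1 + q * N) n)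
          (Zp a ha p k' n') h') L) i).hom y = 0 := by
      rintro _ _ rfl rfl h'
      rw [show res (psi a ha N ^ (r + 1)) (Zp a ha p (1 + q * N) n)
          (Zp a ha p (1 + q * N + N + r * N) (n - N - r * N)) h' = φ.τ₁ ≫ φ'.τ₁ from
        ModuleCat.hom_ext (LinearMap.ext fun c => Subtype.ext (by
          show (psi a ha N ^ (r + 1)) c.1 = (psi a ha N ^ r) (psi a ha N c.1)
          rw [pow_succ, Module.End.mul_apply]))]
      refine (ConcreteCategory.congr_hom ((congrArg (fun f => HomologicalComplex.homologyMap f i)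
        (GrothLib.ExtTorMap.torCxMap_comp φ.τ₁ φ'.τ₁ L)).trans (HomologicalComplex.homologyMap_comp _ _ i)) y).trans ?_
      show (HomologicalComplex.homologyMap (torCxMap φ'.τ₁ L) i).hom
        ((HomologicalComplex.homologyMap (torCxMap φ.τ₁ L) i).hom y) = 0
      exact (congrArg _ hw.symm).trans (ConcreteCategory.congr_hom hnat w)
    exact h4 _ _ (by ring) (by rw [add_mul, one_mul]; omega) h

theorem coeff_psi_pow_empty (N : ℕ) : ∀ (r : ℕ) (c : VV) (i : ℕ),
    (((psi a ha N ^ r) c ∅ : ℬ) : Polynomial A).coeff i = ((c ∅ : ℬ) : Polynomial A).coeff (i + r * N)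
  | 0, c, i => by simp
  | r + 1, c, i => by
    rw [pow_succ, Module.End.mul_apply, coeff_psi_pow_empty N r, psi_apply, Finset.prod_empty, one_mul, coeff_sh]
    congr 1
    ring

theorem torZero_psi_pow_C0 {N B d : ℕ}
    (hkill : ∀ (j : Fin g) (m : ℕ), GrothLib.TorKill.Killed (a j ^ N) (ModuleCat.of A (Deg I m)) d)
    (hB : ∀ q ≤ g, Exact' a ha (1 + q * N) B) {n : ℕ} (hn : B + g * N ≤ n) {i : ℕ} (hi : d < i) (h) :
    TorZero (res (psi a ha N ^ g) (Cp (I := I) 0 1 n) (Cp (I := I) 0 (1 + g * N) (n - g * N)) h) i := by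
  have hz1 := torZero_psi_pow_Zp a ha hkill hB g 1 0 n (by omega) le_rfl (by omega) hn
  rw [show 1 + 0 * N = 1 by ring] at hz1
  have hb1 : Exact' a ha 1 B := by simpa using hB 0 (Nat.zero_le _)
  have hinj : ∀ (k m : ℕ), Exact' a ha k B → B ≤ m → Function.Bijective (dres a ha 0 k m) := fun k m hk hm => by
    refine ⟨fun x y e => ?_, dres_surjective a ha hk hm⟩
    have : (x - y : VV) ∈ Zp a ha 0 k m := ⟨sub_mem x.2 y.2, by
      show dK a ha k ((x : VV) - y) = 0
      rw [map_sub, sub_eq_zero]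
      exact congrArg Subtype.val e⟩
    rw [Zp_zero_eq_bot a ha hk hm, Submodule.mem_bot, sub_eq_zero] at this
    exact Subtype.ext this
  let e₁ := isoSub _ (hinj 1 n hb1 (by omega))
  let e₂ := isoSub _ (hinj (1 + g * N) (n - g * N) (hB g le_rfl) (by omega))
  refine GrothLib.TorBal.torZero_iff_of_iso e₁.symm e₂.symm
    (res (psi a ha N ^ g) _ _ (psi_pow_mem_Zp a ha (p := 0 + 1) g 1 n (by omega))) _ ?_ i
    (hz1 (psi_pow_mem_Zp a ha g 1 n (by omega)) i hi)
  rw [Iso.symm_hom, Iso.symm_hom, ← cancel_epi e₁.hom, Iso.hom_inv_id_assoc, ← cancel_mono e₂.hom, Category.assoc,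
    Category.assoc, Iso.inv_hom_id, Category.comp_id]
  exact ModuleCat.hom_ext (LinearMap.ext fun c => Subtype.ext (dK_psi_pow a ha g 1 n (by omega) c.1 c.2).symm)

/-- An element of `I ^ n` in the Rees algebra. -/
noncomputable def ofPowDeg (n : ℕ) : (I ^ n : Ideal A) →ₗ[A] Deg I (n + 0 * 1) where
  toFun x := ⟨single n x.2, fun i hi => by
    show (Polynomial.monomial n (x : A)).coeff i = 0
    rw [Polynomial.coeff_monomial, if_neg (by omega)]⟩
  map_add' x y := Subtype.ext (Subtype.ext ((Polynomial.monomial n).map_add (x : A) y))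
  map_smul' r x := Subtype.ext (Subtype.ext ((Polynomial.monomial n).map_smul r (x : A)))

/-- An element of `I ^ n` as a cochain of degree zero. -/
noncomputable def ofPow (n : ℕ) : (I ^ n : Ideal A) →ₗ[A] Cp (I := I) (g := g) 0 1 n :=
  (incl 0 1 n ∅ rfl).comp (ofPowDeg n)

theorem coeff_ofPow (n : ℕ) (x : (I ^ n : Ideal A)) :
    (((ofPow (I := I) (g := g) n x : Cp (I := I) (g := g) 0 1 n) : VV) ∅ : Polynomial A).coeff n = (x : A) := by
  show ((Pi.single (M := fun _ => ℬ) (∅ : Finset (Fin g)) ((ofPowDeg n x : Deg I (n + 0 * 1)) : ℬ) ∅ : ℬ) :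
    Polynomial A).coeff n = _
  rw [Pi.single_eq_same]
  show (Polynomial.monomial n (x : A)).coeff n = _
  rw [Polynomial.coeff_monomial, if_pos rfl]

/-- The coefficient of degree `m` of a cochain of degree zero. -/
noncomputable def toPow (m k : ℕ) : Cp (I := I) (g := g) 0 k m →ₗ[A] (I ^ m : Ideal A) where
  toFun c := ⟨((c.1 ∅ : ℬ) : Polynomial A).coeff m, (c.1 ∅).2 _⟩
  map_add' _ _ := Subtype.ext (Polynomial.coeff_add _ _ _)
  map_smul' _ _ := Subtype.ext (Polynomial.coeff_smul _ _ _)

/-- The inclusion `I^n → I^m` is zero on high `Tor` when `n` is large and `n - m` is large. -/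
theorem exists_incl_torZero [IsNoetherianRing A] {t : ℕ} (v : Fin (t + 1) → A) (I : Ideal A)
    (hI : I = Ideal.span (Set.range v)) :
    ∃ N c : ℕ, ∀ n, N ≤ n → ∀ i, t < i →
      TorZero (ModuleCat.ofHom (Submodule.inclusion (Ideal.pow_le_pow_right (Nat.sub_le n c) : I ^ n ≤ I ^ (n - c)))) i := by
  classical
  have hv : ∀ j, v j ∈ I := fun j => hI ▸ Ideal.subset_span ⟨j, rfl⟩
  choose M hM using fun j : Fin (t + 1) => GrothLib.TorKill.exists_killed_rees (v j) (fun i => v (j.succAbove i))
  let N := Finset.univ.sum M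
  have hkill : ∀ (j : Fin (t + 1)) (m : ℕ), GrothLib.TorKill.Killed (v j ^ N) (ModuleCat.of A (Deg I m)) t := by
    intro j m
    have hspan : I = Ideal.span (insert (v j) (Set.range fun i => v (j.succAbove i))) := by
      rw [hI]
      refine congrArg Ideal.span (Set.ext fun x => ⟨?_, ?_⟩)
      · rintro ⟨k, rfl⟩
        rcases eq_or_ne k j with rfl | h
        · exact Set.mem_insert _ _
        · obtain ⟨i, rfl⟩ := Fin.exists_succAbove_eq h
          exact Set.mem_insert_of_mem _ ⟨i, rfl⟩
      · rintro (rfl | ⟨i, rfl⟩) <;> exact ⟨_, rfl⟩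
    have h := killed_sub (Deg I m) (trunc m) (trunc_mem m) (fun q hq => trunc_of_mem hq) (hM j I hspan)
    have hle : M j ≤ N := Finset.single_le_sum (fun _ _ => Nat.zero_le _) (Finset.mem_univ j)
    have h' := h.mul (v j ^ (N - M j))
    rwa [← pow_add, Nat.sub_add_cancel hle] at h'
  choose B hB using fun q : ℕ => exists_exact v hv hI (1 + q * N)
  let B' := (Finset.range (t + 2)).sup B
  have hB' : ∀ q ≤ t + 1, Exact' v hv (1 + q * N) B' := fun q hq n hn =>
    hB q n ((Finset.le_sup (f := B) (Finset.mem_range.2 (by omega))).trans hn)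
  refine ⟨B' + (t + 1) * N, (t + 1) * N, fun n hn i hi => ?_⟩
  have h := torZero_psi_pow_C0 v hv hkill hB' hn hi (psi_pow_mem_Cp v hv (t + 1) 1 n (by omega))
  have key := torZero_comp_right (ofSub (ofPow (I := I) (g := t + 1) n))
    (torZero_comp_left (ofSub (toPow (I := I) (g := t + 1) (n - (t + 1) * N) (1 + (t + 1) * N))) h)
  refine Eq.mp (congrArg (fun f => TorZero f i) ?_) key
  refine ModuleCat.hom_ext (LinearMap.ext fun x => Subtype.ext ?_)
  show (((psi v hv N ^ (t + 1)) (ofPow (I := I) (g := t + 1) n x).1 ∅ : ↥(reesAlgebra I)) : Polynomial A).coeff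
    (n - (t + 1) * N) = (x : A)
  rw [coeff_psi_pow_empty, Nat.sub_add_cancel (by omega), coeff_ofPow]

end GrothLib.TorKoszul
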