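import Mathlib.RingTheory.ReesAlgebra
import Mathlib.RingTheory.Finiteness.Ideal
import Mathlib.RingTheory.Noetherian.Basic
import Mathlib.Tactic.LinearCombination
import Mathlib.Tactic.Ring

/-!
# Koszul complexes on the Rees algebra, exact in high degrees
-/

set_option autoImplicit false
universe u

open Polynomial

namespace GrothLib.TorKoszul

variable {A : Type u} [CommRing A] (I : Ideal A)

set_option quotPrecheck false in
local notation "ℬ" => ↥(reesAlgebra I)

/-- Elements concentrated in degrees at least `m`. -/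
def Deg (m : ℕ) : Submodule A ℬ where
  carrier := {q | ∀ i, i < m → (q : A[X]).coeff i = 0}
  zero_mem' i _ := by simp
  add_mem' hp hq i hi := by simp [hp i hi, hq i hi]
  smul_mem' r q hq i hi := by simp [hq i hi]

variable {I}

theorem Deg_anti {m m' : ℕ} (h : m ≤ m') : Deg I m' ≤ Deg I m := fun _ hq i hi => hq i (lt_of_lt_of_le hi h)

/-- A homogeneous element. -/
noncomputable def single (m : ℕ) {x : A} (hx : x ∈ I ^ m) : ℬ :=
  ⟨monomial m x, fun i => by
    rw [coeff_monomial]
    split_ifs with h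
    · subst h; exact hx
    · exact zero_mem _⟩

/-- Truncation below degree `m`. -/
noncomputable def trunc (m : ℕ) : ℬ →ₗ[A] ℬ where
  toFun q := q - ∑ i ∈ Finset.range m, single i (q.2 i)
  map_add' p q := Subtype.ext (by
    simp only [single, Subalgebra.coe_add, AddSubgroupClass.coe_sub, AddSubmonoidClass.coe_finset_sum, coeff_add,
      map_add, Finset.sum_add_distrib]
    abel)
  map_smul' r q := Subtype.ext (by
    simp only [single, SetLike.val_smul, AddSubgroupClass.coe_sub, AddSubmonoidClass.coe_finset_sum, coeff_smul,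
      map_smul, RingHom.id_apply, smul_sub, Finset.smul_sum])

theorem coeff_trunc (m : ℕ) (q : ℬ) (i : ℕ) :
    (trunc m q : A[X]).coeff i = if i < m then 0 else (q : A[X]).coeff i := by
  show ((q - ∑ j ∈ Finset.range m, single j (q.2 j) : ℬ) : A[X]).coeff i = _
  simp only [single, AddSubgroupClass.coe_sub, AddSubmonoidClass.coe_finset_sum, coeff_sub, finset_sum_coeff,
    coeff_monomial, Finset.sum_ite_eq', Finset.mem_range]
  split_ifs <;> simp

theorem trunc_mem (m : ℕ) (q : ℬ) : trunc m q ∈ Deg I m := fun i hi => by rw [coeff_trunc, if_pos hi]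

theorem trunc_of_mem {m : ℕ} {q : ℬ} (hq : q ∈ Deg I m) : trunc m q = q := Subtype.ext (Polynomial.ext fun i => by
  rw [coeff_trunc]
  split_ifs with h
  · exact (hq i h).symm
  · rfl)

/-- The shift down by `N` degrees. -/
noncomputable def sh (N : ℕ) : ℬ →ₗ[A] ℬ :=
  let f : A[X] →ₗ[A] A[X] := Polynomial.lsum fun i => if N ≤ i then monomial (i - N) else 0
  have hf : ∀ (p : A[X]) (j : ℕ), (f p).coeff j = p.coeff (j + N) := fun p j => by
    induction p using Polynomial.induction_on' with
    | add p q hp hq => rw [map_add, coeff_add, coeff_add, hp, hq]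
    | monomial i x =>
      simp only [f, Polynomial.lsum_apply, sum_monomial_index, map_zero]
      rw [coeff_monomial]
      by_cases h : N ≤ i
      · rw [if_pos h, coeff_monomial]; congr 1; exact propext (by omega)
      · rw [if_neg h, if_neg (by omega), LinearMap.zero_apply, coeff_zero]
  LinearMap.codRestrict (Subalgebra.toSubmodule (reesAlgebra I)) (f ∘ₗ (Subalgebra.toSubmodule (reesAlgebra I)).subtype)
    fun q => fun j => by
      show (f (q : A[X])).coeff j ∈ I ^ j
      rw [hf]
      exact Ideal.pow_le_pow_right (Nat.le_add_right j N) (q.2 (j + N))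

theorem coeff_sh (N : ℕ) (q : ℬ) (j : ℕ) : (sh N q : A[X]).coeff j = (q : A[X]).coeff (j + N) := by
  show (Polynomial.lsum (fun i => if N ≤ i then monomial (i - N) else 0) (q : A[X])).coeff j = _
  generalize (q : A[X]) = p
  induction p using Polynomial.induction_on' with
  | add p q hp hq => rw [map_add, coeff_add, coeff_add, hp, hq]
  | monomial i x =>
    simp only [Polynomial.lsum_apply, sum_monomial_index, map_zero]
    rw [coeff_monomial]
    by_cases h : N ≤ i
    · rw [if_pos h, coeff_monomial]; congr 1; exact propext (by omega)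
    · rw [if_neg h, if_neg (by omega), LinearMap.zero_apply, coeff_zero]

theorem sh_mem {N m : ℕ} {q : ℬ} (hq : q ∈ Deg I m) : sh N q ∈ Deg I (m - N) := fun i hi => by
  rw [coeff_sh]; exact hq _ (by omega)

variable {g : ℕ} (a : Fin g → A) (ha : ∀ j, a j ∈ I)

/-- The degree-one generators. -/
noncomputable def tau (j : Fin g) : ℬ := single 1 (by rw [pow_one]; exact ha j)

theorem coeff_tau_mul (j : Fin g) (q : ℬ) (i : ℕ) :
    ((tau a ha j * q : ℬ) : A[X]).coeff i = if i = 0 then 0 else a j * (q : A[X]).coeff (i - 1) := by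
  show (monomial 1 (a j) * (q : A[X])).coeff i = _
  rw [← C_mul_X_eq_monomial, mul_assoc, coeff_C_mul]
  rcases i with _ | i
  · simp
  · simp [coeff_X_mul]

theorem tau_pow_mul_mem (j : Fin g) {q : ℬ} : ∀ (k : ℕ) {m : ℕ}, q ∈ Deg I m → tau a ha j ^ k * q ∈ Deg I (m + k)
  | 0, m, hq => by rwa [pow_zero, one_mul]
  | k + 1, m, hq => fun i hi => by
    rw [pow_succ', mul_assoc, coeff_tau_mul]
    split_ifs with h
    · rfl
    · rw [tau_pow_mul_mem j k hq (i - 1) (by omega), mul_zero]

theorem trunc_tau_pow (j : Fin g) (m : ℕ) (q : ℬ) : ∀ k : ℕ,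
    trunc (m + k) (tau a ha j ^ k * q) = tau a ha j ^ k * trunc m q
  | 0 => by rw [pow_zero, one_mul, one_mul, Nat.add_zero]
  | k + 1 => by
    rw [pow_succ', mul_assoc, mul_assoc, ← trunc_tau_pow j m q k]
    refine Subtype.ext (Polynomial.ext fun i => ?_)
    rw [coeff_trunc, coeff_tau_mul, coeff_tau_mul, coeff_trunc]
    rcases i with _ | i
    · simp
    · simp only [Nat.succ_ne_zero, if_false, Nat.add_sub_cancel]
      split_ifs <;> first | rfl | omega | simp

theorem sh_tau_mul (j : Fin g) {N : ℕ} {q : ℬ} (hq : q ∈ Deg I N) : sh N (tau a ha j * q) = tau a ha j * sh N q := by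
  refine Subtype.ext (Polynomial.ext fun i => ?_)
  rw [coeff_sh, coeff_tau_mul, coeff_tau_mul, coeff_sh]
  rcases i with _ | i
  · simp only [Nat.zero_add, if_true]
    split_ifs with h
    · rfl
    · rw [hq _ (by omega), mul_zero]
  · rw [if_neg (by omega), if_neg (by omega)]
    congr 2
    omega

theorem sh_tau_pow (j : Fin g) {N : ℕ} : ∀ (k : ℕ) {q : ℬ}, q ∈ Deg I N →
    sh N (tau a ha j ^ k * q) = tau a ha j ^ k * sh N q
  | 0, q, _ => by rw [pow_zero, one_mul, one_mul]
  | k + 1, q, hq => by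
    rw [pow_succ', mul_assoc, sh_tau_mul a ha j (Deg_anti (Nat.le_add_right N k) (tau_pow_mul_mem a ha j k hq)),
      sh_tau_pow j k hq, mul_assoc]

theorem prod_tau_mul_mem (S : Finset (Fin g)) (L : ℕ) : ∀ {m : ℕ} {q : ℬ}, q ∈ Deg I m →
    (∏ j ∈ S, tau a ha j ^ L) * q ∈ Deg I (m + S.card * L) := by
  classical
  induction S using Finset.induction_on with
  | empty => intro m q hq; simpa using hq
  | insert i S hi ih =>
    intro m q hq
    rw [Finset.prod_insert hi, mul_assoc, Finset.card_insert_of_notMem hi]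
    exact Deg_anti (by rw [add_mul, one_mul, add_assoc]) (tau_pow_mul_mem a ha i L (ih hq))

section Koszul

/-- The sign. -/
noncomputable def eps (i : Fin g) (S : Finset (Fin g)) : ℬ := (-1) ^ (S.filter (· < i)).card

theorem eps_mul_self (i : Fin g) (S : Finset (Fin g)) : eps (I := I) i S * eps i S = 1 := by
  unfold eps
  rcases neg_one_pow_eq_or ℬ (S.filter (· < i)).card with h | h <;> rw [h] <;> ring

theorem eps_erase {i j : Fin g} {S : Finset (Fin g)} (hi : i ∈ S) :
    eps (I := I) j S = eps j (S.erase i) * (if i < j then -1 else 1) := by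
  unfold eps
  rw [Finset.filter_erase]
  split_ifs with h
  · rw [← Finset.card_erase_add_one (Finset.mem_filter.2 ⟨hi, h⟩), pow_succ]
  · rw [Finset.erase_eq_of_notMem (by simp [h]), mul_one]

theorem eps_swap {i j : Fin g} {S : Finset (Fin g)} (hij : i ≠ j) (hi : i ∈ S) (hj : j ∈ S) :
    eps (I := I) i S * eps j (S.erase i) = -(eps j S * eps i (S.erase j)) := by
  rw [eps_erase (j := j) hi, eps_erase (j := i) hj]
  rcases lt_or_gt_of_ne hij with h | h
  · rw [if_pos h, if_neg (not_lt.2 h.le)]; ring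
  · rw [if_neg (not_lt.2 h.le), if_pos h]; ring

/-- The differential. -/
noncomputable def dK (k : ℕ) : (Finset (Fin g) → ℬ) →ₗ[ℬ] (Finset (Fin g) → ℬ) where
  toFun c S := ∑ i ∈ S, eps i S * (tau a ha i ^ k * c (S.erase i))
  map_add' c c' := funext fun S => by
    simp only [Pi.add_apply, mul_add, Finset.sum_add_distrib]
  map_smul' r c := funext fun S => by
    simp only [Pi.smul_apply, smul_eq_mul, Finset.mul_sum, RingHom.id_apply]
    exact Finset.sum_congr rfl fun i _ => by ring

theorem dK_apply (k : ℕ) (c : Finset (Fin g) → ℬ) (S : Finset (Fin g)) :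
    dK a ha k c S = ∑ i ∈ S, eps i S * (tau a ha i ^ k * c (S.erase i)) := rfl

theorem dK_dK (k : ℕ) (c : Finset (Fin g) → ℬ) : dK a ha k (dK a ha k c) = 0 := funext fun S => by
  simp only [dK_apply, Finset.mul_sum, Pi.zero_apply]
  rw [Finset.sum_sigma']
  refine Finset.sum_involution (fun x _ => ⟨x.2, x.1⟩) (fun x hx => ?_) (fun x hx _ e => ?_) (fun x hx => ?_)
    (fun x _ => rfl)
  · obtain ⟨h1, h2⟩ := Finset.mem_sigma.1 hx
    rw [Finset.erase_right_comm (a := x.2) (b := x.1)]
    linear_combination (tau a ha x.1 ^ k * tau a ha x.2 ^ k * c ((S.erase x.1).erase x.2)) *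
      eps_swap (I := I) (Finset.ne_of_mem_erase h2).symm h1 (Finset.mem_of_mem_erase h2)
  · obtain ⟨_, h2⟩ := Finset.mem_sigma.1 hx
    exact Finset.ne_of_mem_erase h2 (congrArg Sigma.fst e)
  · obtain ⟨h1, h2⟩ := Finset.mem_sigma.1 hx
    exact Finset.mem_sigma.2 ⟨Finset.mem_of_mem_erase h2, Finset.mem_erase.2 ⟨(Finset.ne_of_mem_erase h2).symm, h1⟩⟩

/-- The homotopy. -/
noncomputable def hK (j : Fin g) (c : Finset (Fin g) → ℬ) : Finset (Fin g) → ℬ :=
  fun S => if j ∈ S then 0 else eps j (insert j S) * c (insert j S)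

theorem homotopy (k : ℕ) (j : Fin g) {z : Finset (Fin g) → ℬ} (hz : dK a ha k z = 0) :
    dK a ha k (hK j z) = tau a ha j ^ k • z := funext fun S => by
  classical
  rw [dK_apply, Pi.smul_apply, smul_eq_mul]
  by_cases hj : j ∈ S
  · rw [Finset.sum_eq_single j (fun i hi hne => by
      rw [hK, if_pos (Finset.mem_erase.2 ⟨hne.symm, hj⟩), mul_zero, mul_zero]) (fun h => absurd hj h),
      hK, if_neg (Finset.notMem_erase _ _), Finset.insert_erase hj]
    linear_combination (tau a ha j ^ k * z S) * eps_mul_self (I := I) j S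
  · have h0 := congrFun hz (insert j S)
    rw [dK_apply, Finset.sum_insert hj, Finset.erase_insert hj, Pi.zero_apply] at h0
    have key : ∑ i ∈ S, eps (I := I) i S * (tau a ha i ^ k * hK j z (S.erase i)) =
        -(eps j (insert j S)) * ∑ i ∈ S, eps i (insert j S) * (tau a ha i ^ k * z ((insert j S).erase i)) := by
      rw [Finset.mul_sum]
      refine Finset.sum_congr rfl fun i hi => ?_
      have hij : i ≠ j := fun e => hj (e ▸ hi)
      rw [hK, if_neg (fun h => hj (Finset.mem_of_mem_erase h))]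
      have h := eps_swap (I := I) hij.symm (Finset.mem_insert_self j S) (Finset.mem_insert_of_mem hi)
      rw [Finset.erase_insert hj] at h
      rw [← Finset.erase_insert_of_ne hij.symm]
      have h2 : eps (I := I) i S * eps j ((insert j S).erase i) = -(eps j (insert j S) * eps i (insert j S)) := by
        linear_combination (eps (I := I) j (insert j S) * eps j ((insert j S).erase i)) * h -
          (eps (I := I) j ((insert j S).erase i) * eps i S) * eps_mul_self (I := I) j (insert j S) -
          (eps (I := I) j (insert j S) * eps i (insert j S)) * eps_mul_self (I := I) j ((insert j S).erase i)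
      linear_combination (tau a ha i ^ k * z ((insert j S).erase i)) * h2
    rw [key, eq_neg_of_add_eq_zero_right h0]
    linear_combination (tau a ha j ^ k * z S) * eps_mul_self (I := I) j (insert j S)

variable (hI : I = Ideal.span (Set.range a))

include hI in
theorem single_one_mem {y : A} (hy : y ∈ I) : ∃ q ∈ Ideal.span (Set.range (tau a ha)), (q : A[X]) = monomial 1 y := by
  have hy' : y ∈ Submodule.span A (Set.range a) := hI.le hy
  obtain ⟨v, hv⟩ := (Submodule.mem_span_range_iff_exists_fun A).1 hy'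
  refine ⟨∑ j, v j • tau a ha j, Ideal.sum_mem _ fun j _ => ?_, ?_⟩
  · rw [Algebra.smul_def]
    exact Ideal.mul_mem_left _ _ (Ideal.subset_span ⟨j, rfl⟩)
  · rw [← hv, AddSubmonoidClass.coe_finset_sum, map_sum]
    exact Finset.sum_congr rfl fun j _ => by simp [tau, single, Polynomial.smul_monomial]

include hI in
theorem single_mem_pow : ∀ (m : ℕ) {x : A}, x ∈ I ^ m →
    ∃ q ∈ Ideal.span (Set.range (tau a ha)) ^ m, (q : A[X]) = monomial m x
  | 0, x, _ => ⟨algebraMap A ℬ x, by simp, rfl⟩
  | m + 1, x, hx => by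
    rw [pow_succ] at hx
    induction hx using Submodule.mul_induction_on' with
    | mem_mul_mem u hu v hv =>
      obtain ⟨p, hp, hp'⟩ := single_mem_pow m hu
      obtain ⟨q, hq, hq'⟩ := single_one_mem a ha hI hv
      exact ⟨p * q, by rw [pow_succ]; exact Ideal.mul_mem_mul hp hq, by
        rw [MulMemClass.coe_mul, hp', hq', monomial_mul_monomial]⟩
    | add u _ v _ hu hv =>
      obtain ⟨p, hp, hp'⟩ := hu
      obtain ⟨q, hq, hq'⟩ := hv
      exact ⟨p + q, add_mem hp hq, by rw [Subalgebra.coe_add, hp', hq', map_add]⟩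

include hI in
theorem mem_pow_of_mem_Deg {E : ℕ} {q : ℬ} (hq : q ∈ Deg I E) : q ∈ Ideal.span (Set.range (tau a ha)) ^ E := by
  choose p hp hp' using fun i => single_mem_pow a ha hI i (q.2 i)
  have : q = ∑ i ∈ (q : A[X]).support, p i := Subtype.ext (by
    rw [AddSubmonoidClass.coe_finset_sum]
    simp only [hp']
    exact (q : A[X]).as_sum_support)
  rw [this]
  refine Ideal.sum_mem _ fun i hi => Ideal.pow_le_pow_right ?_ (hp i)
  by_contra h
  exact Polynomial.mem_support_iff.1 hi (hq i (by omega))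

/-- Truncation of cochains. -/
noncomputable def truncV (k n : ℕ) : (Finset (Fin g) → ℬ) →ₗ[A] (Finset (Fin g) → ℬ) where
  toFun c S := trunc (n + S.card * k) (c S)
  map_add' c c' := funext fun S => map_add _ _ _
  map_smul' r c := funext fun S => (trunc (n + S.card * k)).map_smul r (c S)

theorem trunc_smul_sign (m : ℕ) (i : Fin g) (S : Finset (Fin g)) (q : ℬ) :
    trunc m (eps i S * q) = eps i S * trunc m q := by
  unfold eps
  rcases neg_one_pow_eq_or ℬ (S.filter (· < i)).card with h | h <;> rw [h]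
  · rw [one_mul, one_mul]
  · rw [neg_one_mul, neg_one_mul, map_neg]

theorem truncV_dK (k n : ℕ) (c : Finset (Fin g) → ℬ) :
    truncV k n (dK a ha k c) = dK a ha k (truncV k n c) := funext fun S => by
  show trunc (n + S.card * k) (dK a ha k c S) = _
  rw [dK_apply, dK_apply, map_sum]
  refine Finset.sum_congr rfl fun i hi => ?_
  rw [trunc_smul_sign]
  congr 1
  rw [← Finset.card_erase_add_one hi, add_mul, one_mul, ← add_assoc]
  exact trunc_tau_pow a ha i _ _ k

theorem trunc_mul_eq_zero {p q : ℬ} {E D m : ℕ} (hp : ∀ i, E ≤ i → (p : A[X]).coeff i = 0)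
    (hq : ∀ i, D ≤ i → (q : A[X]).coeff i = 0) (hm : E + D ≤ m) : trunc m (p * q) = 0 :=
  Subtype.ext (Polynomial.ext fun i => by
    rw [coeff_trunc, ZeroMemClass.coe_zero, coeff_zero]
    split_ifs with h
    · rfl
    · rw [MulMemClass.coe_mul, coeff_mul]
      refine Finset.sum_eq_zero fun x hx => ?_
      rw [Finset.mem_antidiagonal] at hx
      by_cases h' : E ≤ x.1
      · rw [hp _ h', zero_mul]
      · rw [hq _ (by omega), mul_zero])

include hI in
/-- Exactness in high degrees. -/
theorem exists_exact [IsNoetherianRing A] (k : ℕ) : ∃ n₀, ∀ n, n₀ ≤ n → ∀ z : Finset (Fin g) → ℬ,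
    (∀ S, z S ∈ Deg I (n + S.card * k)) → dK a ha k z = 0 →
      ∃ y, (∀ S, y S ∈ Deg I (n + S.card * k)) ∧ dK a ha k y = z := by
  classical
  obtain ⟨E, hE⟩ := Ideal.exists_pow_le_of_le_radical_of_fg
    (I := Ideal.span (Set.range (tau a ha))) (J := Ideal.span (Set.range fun j => tau a ha j ^ k))
    (Ideal.span_le.2 (by rintro _ ⟨j, rfl⟩; exact ⟨k, Ideal.subset_span ⟨j, rfl⟩⟩)) (IsNoetherian.noetherian _)
  obtain ⟨G, hG⟩ := IsNoetherian.noetherian (LinearMap.ker (dK a ha k))
  let D := (G.sup fun z => Finset.univ.sup fun S => ((z S : ℬ) : A[X]).natDegree) + 1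
  refine ⟨E + D, fun n hn z hz hd => ?_⟩
  obtain ⟨v, -, hv⟩ := Submodule.mem_span_finset.1 (show z ∈ Submodule.span ℬ (G : Set (Finset (Fin g) → ℬ)) by
    rw [hG]; exact LinearMap.mem_ker.2 hd)
  have hb : ∀ w ∈ G, ∀ x ∈ Ideal.span (Set.range (tau a ha)) ^ E, x • w ∈ LinearMap.range (dK a ha k) := by
    intro w hw x hx
    obtain ⟨c, rfl⟩ := Ideal.mem_span_range_iff_exists_fun.1 (hE hx)
    rw [Finset.sum_smul]
    refine Submodule.sum_mem _ fun j _ => ?_
    rw [mul_smul, ← homotopy a ha k j (LinearMap.mem_ker.1 (hG ▸ Submodule.subset_span hw))]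
    exact Submodule.smul_mem _ _ (LinearMap.mem_range_self _ _)
  obtain ⟨y, hy⟩ : ∑ w ∈ G, trunc E (v w) • w ∈ LinearMap.range (dK a ha k) :=
    Submodule.sum_mem _ fun w hw => hb w hw _ (mem_pow_of_mem_Deg a ha hI (trunc_mem E _))
  refine ⟨truncV k n y, fun S => trunc_mem _ _, ?_⟩
  rw [← truncV_dK, hy]
  funext S
  show trunc (n + S.card * k) ((∑ w ∈ G, trunc E (v w) • w) S) = z S
  conv_rhs => rw [← trunc_of_mem (hz S), ← hv]
  simp only [Finset.sum_apply, Pi.smul_apply, smul_eq_mul, map_sum]
  refine Finset.sum_congr rfl fun w hw => ?_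
  rw [eq_comm, ← sub_eq_zero, ← map_sub, ← sub_mul]
  refine trunc_mul_eq_zero (E := E) (D := D) (fun i hi => ?_) (fun i hi => ?_) (by omega)
  · rw [AddSubgroupClass.coe_sub, coeff_sub, coeff_trunc, if_neg (by omega), sub_self]
  · refine coeff_eq_zero_of_natDegree_lt (lt_of_lt_of_le (Nat.lt_succ_of_le ?_) hi)
    exact (Finset.le_sup (f := fun S => ((w S : ℬ) : A[X]).natDegree) (Finset.mem_univ S)).trans
      (Finset.le_sup (f := fun z => Finset.univ.sup fun S => ((z S : ℬ) : A[X]).natDegree) hw)

end Koszul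

end GrothLib.TorKoszul
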